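import Groth.Agent.PicH1Lib.Triv
import Groth.Agent.InvX.Pullback

/-!
# The comparison of the Picard group with the first cohomology of the units
-/

universe u

open CategoryTheory CategoryTheory.Limits AlgebraicGeometry Opposite TopologicalSpace CategoryTheory.Abelian

noncomputable section

set_option autoImplicit false
set_option maxHeartbeats 400000
set_option synthInstance.maxHeartbeats 100000
set_option backward.isDefEq.respectTransparency false
set_option backward.isDefEq.respectTransparency.types false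

namespace Groth.Agent.PicH1

open AModX InvX

/-- The top open is terminal. -/
def topTerminal (T : TopCat.{u}) : IsTerminal (⊤ : Opens T) :=
  IsTerminal.ofUniqueHom (fun _ => homOfLE le_top) fun _ _ => Subsingleton.elim _ _

/-- The connecting map out of the global sections. -/
def conn {T : TopCat.{u}} {S : ShortComplex (CohTop.Ab T)} (hS : S.ShortExact) :
    S.X₃.obj.obj (op (⊤ : Opens T)) →+ CohTop.H S.X₁ 1 :=
  AddMonoidHom.mk' (fun q => ((Sheaf.H.equiv₀ S.X₃ (topTerminal T)).symm q).comp hS.extClass (zero_add 1))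
    fun a b => by rw [map_add]; exact Ext.add_comp _ _ _ _

theorem conn_eq_zero_iff {T : TopCat.{u}} {S : ShortComplex (CohTop.Ab T)} (hS : S.ShortExact)
    (q : S.X₃.obj.obj (op (⊤ : Opens T))) : conn hS q = 0 ↔ ∃ t, ap S.g ⊤ t = q := by
  constructor
  · intro h
    obtain ⟨y, hy⟩ := Ext.covariant_sequence_exact₃ _ hS _ rfl h
    refine ⟨Sheaf.H.equiv₀ S.X₂ (topTerminal T) y, ?_⟩
    refine (Sheaf.H.equiv₀_naturality (topTerminal T) S.g y).trans ?_
    rw [Sheaf.H.map_apply, hy, AddEquiv.apply_symm_apply]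
  · rintro ⟨t, rfl⟩
    show ((Sheaf.H.equiv₀ S.X₃ (topTerminal T)).symm (ap S.g ⊤ t)).comp hS.extClass (zero_add 1) = 0
    rw [show (Sheaf.H.equiv₀ S.X₃ (topTerminal T)).symm (ap S.g ⊤ t) =
      Sheaf.H.map S.g 0 ((Sheaf.H.equiv₀ S.X₂ (topTerminal T)).symm t) from
      (Sheaf.H.equiv₀_symm_naturality (topTerminal T) S.g t).symm, Sheaf.H.map_apply,
      Ext.comp_assoc_of_second_deg_zero, hS.comp_extClass, Ext.comp_zero]

theorem conn_surjective {T : TopCat.{u}} {S : ShortComplex (CohTop.Ab T)} (hS : S.ShortExact)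
    [Injective S.X₂] : Function.Surjective (conn hS) := fun z => by
  obtain ⟨y, hy⟩ := Ext.covariant_sequence_exact₁ _ hS z (Ext.eq_zero_of_injective _) (n₀ := 0) rfl
  exact ⟨Sheaf.H.equiv₀ S.X₃ (topTerminal T) y, by
    show ((Sheaf.H.equiv₀ S.X₃ (topTerminal T)).symm _).comp hS.extClass (zero_add 1) = z
    rw [AddEquiv.symm_apply_apply]; exact hy⟩

theorem conn_natural {T : TopCat.{u}} {S S' : ShortComplex (CohTop.Ab T)} (hS : S.ShortExact)
    (hS' : S'.ShortExact) (φ : S ⟶ S') (q : S.X₃.obj.obj (op (⊤ : Opens T))) :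
    Sheaf.H.map φ.τ₁ 1 (conn hS q) = conn hS' (ap φ.τ₃ ⊤ q) := by
  show (((Sheaf.H.equiv₀ S.X₃ (topTerminal T)).symm q).comp hS.extClass (zero_add 1)).comp
      (Ext.mk₀ φ.τ₁) (add_zero 1) = ((Sheaf.H.equiv₀ S'.X₃ (topTerminal T)).symm _).comp hS'.extClass (zero_add 1)
  rw [Ext.comp_assoc_of_third_deg_zero, ShortComplex.ShortExact.extClass_naturality hS hS' φ,
    show (Sheaf.H.equiv₀ S'.X₃ (topTerminal T)).symm (ap φ.τ₃ ⊤ q) =
      Sheaf.H.map φ.τ₃ 0 ((Sheaf.H.equiv₀ S.X₃ (topTerminal T)).symm q) from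
      (Sheaf.H.equiv₀_symm_naturality (topTerminal T) φ.τ₃ q).symm, Sheaf.H.map_apply,
    Ext.comp_assoc_of_second_deg_zero]

variable {Z X : Scheme.{u}} {f : Z ⟶ X}

theorem isInvertible_some (R : Res f) (q : R.Q.obj.obj (op (⊤ : X.Opens))) :
    PicF.IsInvertible (exists_triv R q).choose :=
  (exists_triv R q).choose_spec.some.isInvertible

/-- The invertible class of a global section of the quotient. -/
def toPic [PicGrp.Law Z] (R : Res f) : R.Q.obj.obj (op (⊤ : X.Opens)) →+ Additive (PicLoc.PicSet Z) :=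
  AddMonoidHom.mk' (fun q => Additive.ofMul (PicGrp.cls _ (isInvertible_some R q))) fun a b => by
    refine Additive.toMul.injective (Subtype.ext ?_)
    show PicF.cl _ = (PicGrp.cls _ (isInvertible_some R a) * PicGrp.cls _ (isInvertible_some R b)).1
    rw [PicGrp.cls_mul_cls_val, PicGrp.cl_eq_cl_iff]
    exact (exists_triv R (a + b)).choose_spec.some.nonempty_iso
      (exists_triv_add (exists_triv R a).choose_spec.some (exists_triv R b).choose_spec.some).some

theorem toPic_eq [PicGrp.Law Z] (R : Res f) {L : Z.Modules} {q : R.Q.obj.obj (op (⊤ : X.Opens))}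
    (T : Triv R L q) : toPic R q = Additive.ofMul (PicGrp.cls L T.isInvertible) :=
  congrArg Additive.ofMul ((PicGrp.cls_eq_cls_iff _ _).2 ((exists_triv R q).choose_spec.some.nonempty_iso T))

theorem toPic_eq_zero_iff [PicGrp.Law Z] (R : Res f) (q : R.Q.obj.obj (op (⊤ : X.Opens))) :
    toPic R q = 0 ↔ ∃ t, ap R.proj ⊤ t = q := by
  obtain ⟨T₀⟩ := exists_triv_zero R
  constructor
  · intro h
    have h' : PicGrp.cls _ (isInvertible_some R q) = 1 := congrArg Additive.toMul h
    exact (exists_triv R q).choose_spec.some.exists_global ((PicGrp.cls_eq_one_iff _).1 h').some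
  · rintro ⟨t, rfl⟩
    have T := T₀.addRange t
    rw [zero_add] at T
    rw [toPic_eq R T]
    exact congrArg Additive.ofMul ((PicGrp.cls_eq_one_iff _).2 ⟨Iso.refl _⟩)

/-- The connecting map of a resolution. -/
def connR (R : Res f) : R.Q.obj.obj (op (⊤ : X.Opens)) →+ CohTop.H (uSh f) 1 := conn R.exact

theorem connR_surjective (R : Res f) : Function.Surjective (connR R) :=
  haveI : Injective (ShortComplex.mk R.emb R.proj R.w).X₂ := R.inj
  conn_surjective R.exact

theorem toPic_eq_of_connR_eq [PicGrp.Law Z] (R : Res f) {a b : R.Q.obj.obj (op (⊤ : X.Opens))}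
    (h : connR R a = connR R b) : toPic R a = toPic R b := by
  rw [← sub_eq_zero, ← map_sub, toPic_eq_zero_iff]
  exact (conn_eq_zero_iff R.exact _).1 (by
    show connR R (a - b) = 0
    rw [map_sub, h, sub_self])

/-- The class of a cohomology class of units. -/
def picOfH [PicGrp.Law Z] (R : Res f) : CohTop.H (uSh f) 1 →+ Additive (PicLoc.PicSet Z) :=
  AddMonoidHom.mk' (fun x => toPic R (connR_surjective R x).choose) fun a b => by
    rw [← map_add]
    exact toPic_eq_of_connR_eq R (by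
      rw [map_add, (connR_surjective R _).choose_spec, (connR_surjective R a).choose_spec,
        (connR_surjective R b).choose_spec])

theorem picOfH_connR [PicGrp.Law Z] (R : Res f) (q : R.Q.obj.obj (op (⊤ : X.Opens))) :
    picOfH R (connR R q) = toPic R q :=
  toPic_eq_of_connR_eq R (connR_surjective R _).choose_spec

theorem picOfH_injective [PicGrp.Law Z] (R : Res f) : Function.Injective (picOfH R) :=
  (injective_iff_map_eq_zero _).2 fun x hx => by
    obtain ⟨q, rfl⟩ := connR_surjective R x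
    rw [picOfH_connR, toPic_eq_zero_iff] at hx
    exact (conn_eq_zero_iff R.exact q).2 hx

theorem picOfH_surjective [PicGrp.Law Z] (R : Res f) (hsurj : Function.Surjective f)
    (hopen : ∀ W : Z.Opens, ∃ V : X.Opens, f ⁻¹ᵁ V = W) : Function.Surjective (picOfH R) := fun c => by
  obtain ⟨L, hL, hc⟩ := PicGrp.exists_eq_cls (Additive.toMul c)
  obtain ⟨q, ⟨T⟩⟩ := exists_triv_of_invertible R hsurj hopen hL
  exact ⟨connR R q, by rw [picOfH_connR, toPic_eq R T, ← hc]; rfl⟩

section Natural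

variable {g : Z ⟶ X} (R : Res (𝟙 X)) (R' : Res g) (k : uSh (𝟙 X) ⟶ uSh g)
  (hk : ∀ (U : X.Opens) (c : (uSh (𝟙 X)).obj.obj (op U)), val g (ap k U c) = g.app U (val (𝟙 X) c))
  (φ : R.I ⟶ R'.I) (ψ : R.Q ⟶ R'.Q) (hφ : R.emb ≫ φ = k ≫ R'.emb) (hψ : R.proj ≫ ψ = φ ≫ R'.proj)

include hk hφ hψ in
theorem exists_triv_pull {L : X.Modules} {q : R.Q.obj.obj (op (⊤ : X.Opens))} (T : Triv R L q) :
    Nonempty (Triv R' ((Scheme.Modules.pullback g).obj L) (ap ψ ⊤ q)) :=
  ⟨{ ι := T.ι, U := T.U, cov := T.cov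
     e := fun i => pullElt g (M := L) (U := T.U i) (T.e i)
     frame := fun i => isFrame_pullElt g (M := L) (U := T.U i) (T.frame i)
     s := fun i => ap φ _ (T.s i)
     lift := fun i => by
       have h : ap R'.proj _ (ap φ _ (T.s i)) = ap ψ _ (ap R.proj _ (T.s i)) :=
         (congrArg (fun χ : R.I ⟶ R'.Q => ap χ _ (T.s i)) hψ).symm
       rw [h, T.lift, ap_rs]
     compat := fun i j W hi hj c hc => by
       obtain ⟨c₀, hc₀⟩ := T.exists_diff i j W hi hj
       have hcc : ap k W c₀ = c := R'.emb_injective W (by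
         rw [hc, ← ap_rs, ← ap_rs, ← map_sub, ← hc₀]
         exact (congrArg (fun χ : uSh (𝟙 X) ⟶ R'.I => ap χ W c₀) hφ).symm)
       have h := congrArg (((Scheme.Modules.pullbackPushforwardAdjunction g).unit.app L).app W)
         (T.compat i j W hi hj c₀ hc₀)
       have hval : val g c = g.app W (val (𝟙 X) c₀) := by rw [← hcc]; exact hk W c₀
       rw [hval]
       refine Eq.trans ?_ (h.trans ((Scheme.Modules.Hom.app_smul _ _ _).trans ?_))
       · exact (app_res ((Scheme.Modules.pullbackPushforwardAdjunction g).unit.app L) hj (T.e j)).symm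
       · exact congrArg (fun z : Γ((Scheme.Modules.pullback g).obj L, g ⁻¹ᵁ W) => g.app W (val (𝟙 X) c₀) • z)
           (app_res ((Scheme.Modules.pullbackPushforwardAdjunction g).unit.app L) hi (T.e i)) }⟩

include hk hφ hψ in
theorem picOfH_natural [PicGrp.Law X] [PicGrp.Law Z] (hg : PicGrp.PullMul g) (x : CohTop.H (uSh (𝟙 X)) 1) :
    picOfH R' (Sheaf.H.map k 1 x) =
      Additive.ofMul (PicGrp.pullHom g hg (Additive.toMul (picOfH R x))) := by
  obtain ⟨q, rfl⟩ := connR_surjective R x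
  let Φ : ShortComplex.mk R.emb R.proj R.w ⟶ ShortComplex.mk R'.emb R'.proj R'.w :=
    { τ₁ := k, τ₂ := φ, τ₃ := ψ, comm₁₂ := hφ.symm, comm₂₃ := hψ.symm }
  rw [picOfH_connR, show Sheaf.H.map k 1 (connR R q) = connR R' (ap ψ ⊤ q) from
    conn_natural R.exact R'.exact Φ q, picOfH_connR]
  obtain ⟨L, ⟨T⟩⟩ := exists_triv R q
  obtain ⟨T'⟩ := exists_triv_pull R R' k hk φ ψ hφ hψ T
  rw [toPic_eq R T, toPic_eq R' T']
  rfl

end Natural

theorem exists_compatible {g : Z ⟶ X} (k : uSh (𝟙 X) ⟶ uSh g) :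
    ∃ (R : Res (𝟙 X)) (R' : Res g) (φ : R.I ⟶ R'.I) (ψ : R.Q ⟶ R'.Q),
      R.emb ≫ φ = k ≫ R'.emb ∧ R.proj ≫ ψ = φ ≫ R'.proj := by
  obtain ⟨R⟩ := exists_res (𝟙 X)
  obtain ⟨R'⟩ := exists_res g
  haveI := R'.inj
  haveI := R.exact.mono_f
  haveI := R.exact.epi_g
  let φ := Injective.factorThru (k ≫ R'.emb) R.emb
  have hφ : R.emb ≫ φ = k ≫ R'.emb := Injective.comp_factorThru _ _
  have h0 : R.emb ≫ (φ ≫ R'.proj) = 0 := by
    rw [← Category.assoc, hφ, Category.assoc, R'.w, comp_zero]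
  exact ⟨R, R', φ, R.exact.exact.desc (φ ≫ R'.proj) h0, hφ, R.exact.exact.g_desc _ _⟩

/-- The comparison of the units on `X` with their direct image along the identity. -/
def idIso (X : Scheme.{u}) : uSh (𝟙 X) ≅ UnitsSh.unitsAb X := Iso.refl _

theorem nonempty_addEquiv (X : Scheme.{u}) [PicGrp.Law X] :
    Nonempty (Additive (PicLoc.PicSet X) ≃+ CohTop.H (UnitsSh.unitsAb X) 1) := by
  obtain ⟨R⟩ := exists_res (𝟙 X)
  exact ⟨(AddEquiv.ofBijective (picOfH R) ⟨picOfH_injective R, picOfH_surjective R (fun x => ⟨x, rfl⟩)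
    (fun W => ⟨W, rfl⟩)⟩).symm.trans (UnitsLib.Hiso (idIso X) 1)⟩

end Groth.Agent.PicH1
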