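import Groth.Agent.PicH1Lib.SubHH
import Groth.Agent.FComplLib.IdealComap
import Groth.Agent.H23.PicMul

/-!
# Roots of invertible classes along thickenings of square zero
-/

universe u

open CategoryTheory CategoryTheory.Limits AlgebraicGeometry Opposite TopologicalSpace

noncomputable section

set_option autoImplicit false
set_option maxHeartbeats 400000
set_option synthInstance.maxHeartbeats 100000
set_option backward.isDefEq.respectTransparency false
set_option backward.isDefEq.respectTransparency.types false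

namespace Groth.Agent.PicH1

open AModX

variable {X : Scheme.{u}}

/-- Multiplication by a global function on the abelian sheaf of a module. -/
def smulSh (M : X.Modules) (v : Γ(X, ⊤)) : Coh.toAb M ⟶ Coh.toAb M :=
  ⟨{ app := fun U => AddCommGrpCat.ofHom (show Γ(M, U.unop) →+ Γ(M, U.unop) from AddMonoidHom.mk'
        (fun x : Γ(M, U.unop) => resR (X := X) (le_top : U.unop ≤ ⊤) v • x) (fun a b => smul_add _ _ _))
     naturality := fun U V f => AddCommGrpCat.hom_ext (AddMonoidHom.ext fun (x : Γ(M, U.unop)) => by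
       show resR (X := X) (le_top : V.unop ≤ ⊤) v • res M f.unop.le x =
         res M f.unop.le (resR (X := X) (le_top : U.unop ≤ ⊤) v • x)
       rw [res_smul, resR_resR]) }⟩

theorem nsmul_H {M : X.Modules} (n : ℕ) (v : Γ(X, ⊤)) (hv : (n : Γ(X, ⊤)) * v = 1) (q : ℕ)
    (x : Coh.HH X M q) : Sheaf.H.map (smulSh M v) q (n • x) = x ∧ n • Sheaf.H.map (smulSh M v) q x = x := by
  have h : n • Sheaf.H.map (smulSh M v) q x = x := by
    have h1 : ∀ m : ℕ, Sheaf.H.map (m • smulSh M v) q x = m • Sheaf.H.map (smulSh M v) q x := fun m => by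
      induction m with
      | zero => rw [zero_smul, zero_smul, Sheaf.H.map_apply, Abelian.Ext.mk₀_zero, Abelian.Ext.comp_zero]
      | succ m ih => rw [succ_nsmul, succ_nsmul, Sheaf.H.map_add_apply, ih]
    have h3 : ∀ (m : ℕ) (U : X.Opens) (y : Γ(M, U)), (m • smulSh M v).hom.app (op U) y =
        m • (resR (X := X) (le_top : U ≤ ⊤) v • y) := fun m U y => by
      induction m with
      | zero => rw [zero_smul, zero_smul]; rfl
      | succ m ih => rw [succ_nsmul, succ_nsmul, ← ih]; rfl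
    have h2 : n • smulSh M v = 𝟙 _ := UnitsLib.shExt fun U y => by
      refine (h3 n U y).trans ?_
      rw [← Nat.cast_smul_eq_nsmul Γ(X, U), smul_smul, ← map_natCast (resR (X := X) (le_top : U ≤ ⊤)) n,
        ← map_mul, hv, map_one, one_smul]
      rfl
    rw [← h1, h2, Sheaf.H.map_id_apply]
  exact ⟨by rw [map_nsmul]; exact h, h⟩

theorem exists_root_lift (I : X.IdealSheafData) (hI : I * I = ⊥) [PicGrp.Law X] [PicGrp.Law I.subscheme]
    (hi : PicGrp.PullMul I.subschemeι) (n : ℕ) (v : Γ(X, ⊤)) (hv : (n : Γ(X, ⊤)) * v = 1)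
    (c : PicLoc.PicSet X) (c₀ : PicLoc.PicSet I.subscheme) (h : PicGrp.pullHom I.subschemeι hi c = c₀ ^ n) :
    ∃ m : PicLoc.PicSet X, m ^ n = c ∧ PicGrp.pullHom I.subschemeι hi m = c₀ := by
  obtain ⟨ε, δ₀, α, δ₁, -, -, -, -, hα, hδ⟩ := exists_exact I hI hi
  have h0 : δ₁ c₀ ^ n = 1 := by
    rw [← map_pow, ← h]
    exact (hδ.ge ⟨c, rfl⟩ : _)
  have h1 : δ₁ c₀ = 1 := by
    have h2 : n • (δ₁ c₀).toAdd = 0 := congrArg Multiplicative.toAdd h0
    have h3 := (nsmul_H n v hv 2 (δ₁ c₀).toAdd).1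
    rw [h2, map_zero] at h3
    exact Multiplicative.toAdd.injective h3.symm
  obtain ⟨d, hd⟩ := hδ.le (MonoidHom.mem_ker.2 h1)
  obtain ⟨y, hy⟩ := hα.le (x := c / d ^ n) (MonoidHom.mem_ker.2 (by rw [map_div, map_pow, h, hd, div_self']))
  refine ⟨d * α (Multiplicative.ofAdd (Sheaf.H.map (smulSh (ClSub.idealMod I) v) 1 y.toAdd)), ?_, ?_⟩
  swap
  · rw [map_mul, hd, MonoidHom.mem_ker.1 (hα.ge ⟨_, rfl⟩), mul_one]
  rw [mul_pow, ← map_pow, show (Multiplicative.ofAdd (Sheaf.H.map (smulSh (ClSub.idealMod I) v) 1 y.toAdd)) ^ n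
    = y from congrArg Multiplicative.ofAdd (nsmul_H n v hv 1 y.toAdd).2, hy, mul_div_cancel]

theorem exists_root (I : X.IdealSheafData) (hI : I * I = ⊥) [PicGrp.Law X] [PicGrp.Law I.subscheme]
    (hi : PicGrp.PullMul I.subschemeι) (n : ℕ) (v : Γ(X, ⊤)) (hv : (n : Γ(X, ⊤)) * v = 1)
    (c : PicLoc.PicSet X) (c₀ : PicLoc.PicSet I.subscheme) (h : PicGrp.pullHom I.subschemeι hi c = c₀ ^ n) :
    ∃ m : PicLoc.PicSet X, m ^ n = c := by
  obtain ⟨m, hm, -⟩ := exists_root_lift I hI hi n v hv c c₀ h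
  exact ⟨m, hm⟩

/-- The kernel of a quotient map by an ideal of square zero. -/
theorem ker_Spec_mk_sq (A : Type u) [CommRing A] (J : Ideal A) (hJ : J * J = ⊥) :
    (Spec.map (CommRingCat.ofHom (Ideal.Quotient.mk J))).ker *
      (Spec.map (CommRingCat.ofHom (Ideal.Quotient.mk J))).ker = ⊥ := by
  let g := Spec.map (CommRingCat.ofHom (Ideal.Quotient.mk J))
  refine Scheme.IdealSheafData.ext_of_isAffine ?_
  rw [Scheme.IdealSheafData.ideal_mul, Scheme.IdealSheafData.ideal_bot]
  show g.ker.ideal ⟨⊤, isAffineOpen_top _⟩ * g.ker.ideal ⟨⊤, isAffineOpen_top _⟩ = ⊥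
  rw [eq_bot_iff, Ideal.mul_le]
  intro a ha b hb
  haveI : IsClosedImmersion g := IsClosedImmersion.spec_of_surjective _ Ideal.Quotient.mk_surjective
  rw [FComplLib.ideal_ker, RingHom.mem_ker] at ha hb
  let e := Scheme.ΓSpecIso (CommRingCat.of A)
  have hmem : ∀ z, g.appTop z = 0 → e.hom z ∈ J := fun z hz => by
    have h := ConcreteCategory.congr_hom (Scheme.ΓSpecIso_naturality (CommRingCat.ofHom (Ideal.Quotient.mk J))) z
    exact Ideal.Quotient.eq_zero_iff_mem.1 (h.symm.trans ((congrArg _ hz).trans (map_zero (Scheme.ΓSpecIso (CommRingCat.of (A ⧸ J))).hom.hom)))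
  have h0 : e.hom (a * b) = 0 := by
    have := Ideal.mul_mem_mul (hmem a ha) (hmem b hb)
    rw [hJ] at this
    exact (map_mul e.hom.hom a b).trans this
  have : Function.Injective e.hom := (ConcreteCategory.bijective_of_isIso e.hom).1
  exact this (h0.trans (map_zero e.hom.hom).symm)

end Groth.Agent.PicH1
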