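import Groth.Agent.PicH1Lib.Seq
import Groth.Agent.AmpleVan.ThickPush
import Groth.Agent.PPSheaf.GrCoh
import Groth.Agent.S0459

/-!
# The cohomology of a square zero ideal on the closed subscheme
-/

universe u

open CategoryTheory CategoryTheory.Limits AlgebraicGeometry Opposite TopologicalSpace

noncomputable section

set_option autoImplicit false
set_option maxHeartbeats 400000
set_option synthInstance.maxHeartbeats 100000
set_option backward.isDefEq.respectTransparency false
set_option backward.isDefEq.respectTransparency.types false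

namespace Groth.Agent.PicH1

variable {X : Scheme.{u}} (I : X.IdealSheafData)

theorem isIso_unit_idealMod (hI : I * I = ⊥) :
    IsIso ((Scheme.Modules.pullbackPushforwardAdjunction I.subschemeι).unit.app (ClSub.idealMod I)) := by
  refine (QCoh.isIso_unit_closed_iff _ (PPSheaf.GrCoh.isQCoh_idealMod I)).2 fun U a ha t => ?_
  rw [FComplLib.ideal_ker, RingHom.mem_ker] at ha
  refine UnitsLib.jval_injective I (Eq.trans ?_ (map_zero (((QCoh.toAbFunctor X).map (ClSub.idealModι I)).hom.app (op U.1)).hom).symm)
  have h := Scheme.Modules.Hom.app_smul (ClSub.idealModι I) (U := U.1) a t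
  exact h.trans (UnitsLib.mul_eq_zero_of_sq I hI _ _ ha (UnitsLib.app_jval I t))

/-- Cohomology on the thickening and on the closed subscheme agree. -/
theorem nonempty_HH_equiv (hI : I * I = ⊥) (q : ℕ) :
    Nonempty (Coh.HH X (ClSub.idealMod I) q ≃+
      Coh.HH I.subscheme ((Scheme.Modules.pullback I.subschemeι).obj (ClSub.idealMod I)) q) := by
  have := isIso_unit_idealMod I hI
  obtain ⟨e⟩ := S0459.result I.subschemeι.base I.subschemeι.isClosedEmbedding
    (Coh.toAb ((Scheme.Modules.pullback I.subschemeι).obj (ClSub.idealMod I))) q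
  exact ⟨(UnitsLib.Hiso ((QCoh.toAbFunctor X).mapIso
    (asIso ((Scheme.Modules.pullbackPushforwardAdjunction I.subschemeι).unit.app (ClSub.idealMod I)))) q).trans e.symm⟩

theorem sq_eq_bot (hI : I ^ 2 = ⊥) : I * I = ⊥ := by rw [← hI, pow_two]

theorem subsingleton_HH (hI : I * I = ⊥) (q : ℕ) (h : Subsingleton (Coh.HH I.subscheme
      ((Scheme.Modules.pullback I.subschemeι).obj (ClSub.idealMod I)) q)) :
    Subsingleton (Coh.HH X (ClSub.idealMod I) q) :=
  (nonempty_HH_equiv I hI q).some.toEquiv.subsingleton

end Groth.Agent.PicH1
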