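import Groth.Agent.PicH1Lib.Main

/-!
# The units sequence of a thickening of square zero
-/

universe u

open CategoryTheory CategoryTheory.Limits AlgebraicGeometry Opposite TopologicalSpace CategoryTheory.Abelian

noncomputable section

set_option autoImplicit false
set_option maxHeartbeats 400000
set_option synthInstance.maxHeartbeats 100000
set_option backward.isDefEq.respectTransparency false
set_option backward.isDefEq.respectTransparency.types false

namespace Groth.Agent.PicH1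

variable {X : Scheme.{u}} (I : X.IdealSheafData)

theorem subschemeι_surjective (hI : I * I = ⊥) : Function.Surjective I.subschemeι := fun x => by
  show x ∈ Set.range I.subschemeι
  rw [Scheme.IdealSheafData.range_subschemeι]
  obtain ⟨U, hU, hxU, -⟩ := exists_isAffineOpen_mem_and_subset (U := ⊤) (x := x) trivial
  rw [SetLike.mem_coe, Scheme.IdealSheafData.mem_support_iff_of_mem (U := ⟨U, hU⟩) hxU,
    Scheme.mem_zeroLocus_iff]
  intro a ha
  have h2 : a * a = 0 := by
    have h3 : I.ideal ⟨U, hU⟩ * I.ideal ⟨U, hU⟩ = ⊥ := by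
      have := congrArg (fun J : X.IdealSheafData => J.ideal ⟨U, hU⟩) hI
      simpa using this
    have h4 := Ideal.mul_mem_mul ha ha
    rw [h3] at h4
    exact h4
  intro hb
  have hg := (X.mem_basicOpen a x hxU).1 hb
  have h0 : X.presheaf.germ U x hxU a * X.presheaf.germ U x hxU a = 0 :=
    ((map_mul (X.presheaf.germ U x hxU).hom a a).symm.trans (congrArg _ h2)).trans (map_zero _)
  exact not_isUnit_zero (h0 ▸ hg.mul hg)

theorem exists_preimage_eq (hI : I * I = ⊥) (W : I.subscheme.Opens) : ∃ V : X.Opens, I.subschemeι ⁻¹ᵁ V = W := by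
  obtain ⟨t, ht, hW⟩ := I.subschemeι.isClosedEmbedding.isInducing.isOpen_iff.1 W.isOpen
  exact ⟨⟨t, ht⟩, Opens.ext hW⟩

variable (hI : I * I = ⊥)

/-- The units sequence. -/
def unitsSeq : ShortComplex (CohTop.Ab X.toTopCat) :=
  ShortComplex.mk (UnitsLib.onePlus I hI) (UnitsSh.comap I.subschemeι) (UnitsLib.onePlus_comap I hI)

theorem unitsSeq_shortExact : (unitsSeq I hI).ShortExact := UnitsLib.onePlus_shortExact I hI

theorem exists_unit_lift {u : (Γ(I.subscheme, ⊤))ˣ}
    (hI : I * I = ⊥) (hsurj : Function.Surjective I.subschemeι.appTop.hom) :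
    u ∈ (Units.map I.subschemeι.appTop.hom.toMonoidHom).range := by
  obtain ⟨a, ha⟩ := hsurj u
  obtain ⟨b, hb⟩ := hsurj (u⁻¹ : (Γ(I.subscheme, ⊤))ˣ)
  have hab : I.subschemeι.appTop (a * b) = 1 := by
    show I.subschemeι.appTop.hom (a * b) = 1
    rw [map_mul, ha, hb, Units.mul_inv]
  have h0 : I.subschemeι.app ⊤ (a * b - 1) = 0 := by
    show I.subschemeι.appTop.hom (a * b - 1) = 0
    rw [map_sub, map_one]
    exact sub_eq_zero.2 hab
  have h2 := UnitsLib.mul_eq_zero_of_sq I hI _ _ h0 h0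
  have hu : IsUnit a := IsUnit.of_mul_eq_one (b * (2 - a * b)) (by linear_combination -h2)
  exact ⟨hu.unit, Units.ext ha⟩

include hI in
/-- The exact sequence of a first order thickening. -/
theorem exists_exact [PicGrp.Law X] [PicGrp.Law I.subscheme] (hi : PicGrp.PullMul I.subschemeι) :
    ∃ (ε : Multiplicative (Coh.HH X (ClSub.idealMod I) 0) →* (Γ(X, ⊤))ˣ)
      (δ₀ : (Γ(I.subscheme, ⊤))ˣ →* Multiplicative (Coh.HH X (ClSub.idealMod I) 1))
      (α : Multiplicative (Coh.HH X (ClSub.idealMod I) 1) →* PicLoc.PicSet X)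
      (δ₁ : PicLoc.PicSet I.subscheme →* Multiplicative (Coh.HH X (ClSub.idealMod I) 2)),
      Function.Injective ε ∧
      (Units.map I.subschemeι.appTop.hom.toMonoidHom).ker = ε.range ∧
      δ₀.ker = (Units.map I.subschemeι.appTop.hom.toMonoidHom).range ∧
      α.ker = δ₀.range ∧
      (PicGrp.pullHom I.subschemeι hi).ker = α.range ∧
      δ₁.ker = (PicGrp.pullHom I.subschemeι hi).range := by
  let S := unitsSeq I hI
  have hS : S.ShortExact := unitsSeq_shortExact I hI
  let k : uSh (𝟙 X) ⟶ uSh I.subschemeι := UnitsSh.comap I.subschemeι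
  have hk : ∀ (U : X.Opens) (c : (uSh (𝟙 X)).obj.obj (op U)),
      val I.subschemeι (ap k U c) = I.subschemeι.app U (val (𝟙 X) c) := fun U c => rfl
  obtain ⟨R, R', φ, ψ, hφ, hψ⟩ := exists_compatible k
  let eX : Additive (PicLoc.PicSet X) ≃+ CohTop.H S.X₂ 1 :=
    (AddEquiv.ofBijective (picOfH R) ⟨picOfH_injective R, picOfH_surjective R (fun x => ⟨x, rfl⟩)
      (fun W => ⟨W, rfl⟩)⟩).symm
  let eZ : Additive (PicLoc.PicSet I.subscheme) ≃+ CohTop.H S.X₃ 1 :=
    (AddEquiv.ofBijective (picOfH R') ⟨picOfH_injective R', picOfH_surjective R' (subschemeι_surjective I hI)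
      (exists_preimage_eq I hI)⟩).symm
  have hnat : ∀ x : CohTop.H S.X₂ 1, eZ.symm (Sheaf.H.map S.g 1 x) =
      Additive.ofMul (PicGrp.pullHom I.subschemeι hi (Additive.toMul (eX.symm x))) :=
    fun x => picOfH_natural R R' k hk φ ψ hφ hψ hi x
  have hT := topTerminal X.toTopCat
  let uX : CohTop.H S.X₂ 0 ≃+ Additive (Γ(X, ⊤))ˣ :=
    (Sheaf.H.equiv₀ S.X₂ hT).trans (UnitsSh.sectEquiv X.sheaf ⊤)
  let uZ : CohTop.H S.X₃ 0 ≃+ Additive (Γ(I.subscheme, ⊤))ˣ :=
    (Sheaf.H.equiv₀ S.X₃ hT).trans (UnitsSh.sectEquiv I.subscheme.sheaf ⊤)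
  have hu : ∀ x : CohTop.H S.X₂ 0, uZ (Sheaf.H.map S.g 0 x) =
      Additive.ofMul (Units.map I.subschemeι.appTop.hom.toMonoidHom (Additive.toMul (uX x))) := fun x => by
    show UnitsSh.sectEquiv I.subscheme.sheaf ⊤ (Sheaf.H.equiv₀ S.X₃ hT (Sheaf.H.map S.g 0 x)) = _
    rw [← Sheaf.H.equiv₀_naturality hT S.g x]
    rfl
  let d : (n : ℕ) → CohTop.H S.X₃ n →+ CohTop.H S.X₁ (n + 1) := fun n =>
    hS.extClass.postcomp _ rfl
  let ε : CohTop.H S.X₁ 0 →+ Additive (Γ(X, ⊤))ˣ := uX.toAddMonoidHom.comp (Sheaf.H.map S.f 0)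
  let α : CohTop.H S.X₁ 1 →+ Additive (PicLoc.PicSet X) := eX.symm.toAddMonoidHom.comp (Sheaf.H.map S.f 1)
  let δ₀ : Additive (Γ(I.subscheme, ⊤))ˣ →+ CohTop.H S.X₁ 1 := (d 0).comp uZ.symm.toAddMonoidHom
  let δ₁ : Additive (PicLoc.PicSet I.subscheme) →+ CohTop.H S.X₁ 2 := (d 1).comp eZ.toAddMonoidHom
  refine ⟨AddMonoidHom.toMultiplicativeLeft ε, AddMonoidHom.toMultiplicativeRight δ₀,
    AddMonoidHom.toMultiplicativeLeft α, AddMonoidHom.toMultiplicativeRight δ₁, ?_, ?_, ?_, ?_, ?_, ?_⟩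
  · haveI := hS.mono_f
    haveI : Mono ((UnitsLib.secF (⊤ : X.Opens)).map S.f) := inferInstance
    have hinj : Function.Injective (ap S.f ⊤) := (AddCommGrpCat.mono_iff_injective _).1 this
    intro a b h
    have h' : uX (Sheaf.H.map S.f 0 a.toAdd) = uX (Sheaf.H.map S.f 0 b.toAdd) := congrArg Additive.ofMul h
    have h'' := congrArg (Sheaf.H.equiv₀ S.X₂ hT) (uX.injective h')
    rw [← Sheaf.H.equiv₀_naturality, ← Sheaf.H.equiv₀_naturality] at h''
    exact Multiplicative.toAdd.injective ((Sheaf.H.equiv₀ S.X₁ hT).injective (hinj h''))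
  · ext v
    obtain ⟨x, hx⟩ := uX.surjective (Additive.ofMul v)
    have key : Units.map I.subschemeι.appTop.hom.toMonoidHom v = 1 ↔ Sheaf.H.map S.g 0 x = 0 := by
      rw [← map_eq_zero_iff uZ uZ.injective, hu, hx]
      exact Iff.rfl
    rw [MonoidHom.mem_ker, key, MonoidHom.mem_range]
    constructor
    · intro h
      obtain ⟨y, hy⟩ := UnitsLib.H_exact hS 0 x h
      exact ⟨Multiplicative.ofAdd y, by
        show Additive.toMul (uX (Sheaf.H.map S.f 0 y)) = v
        rw [hy, hx]; rfl⟩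
    · rintro ⟨y, hy⟩
      have : x = Sheaf.H.map S.f 0 y.toAdd := uX.injective (hx.trans (congrArg Additive.ofMul hy).symm)
      rw [this, ← Sheaf.H.map_comp_apply, S.zero, Sheaf.H.map_apply, Ext.mk₀_zero, Ext.comp_zero]
  · ext v
    rw [MonoidHom.mem_ker, MonoidHom.mem_range]
    constructor
    · intro h
      obtain ⟨y, hy⟩ := Ext.covariant_sequence_exact₃ _ hS (uZ.symm (Additive.ofMul v)) rfl
        (congrArg Multiplicative.toAdd h)
      refine ⟨Additive.toMul (uX y), ?_⟩
      have h1 := hu y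
      rw [show Sheaf.H.map S.g 0 y = uZ.symm (Additive.ofMul v) from hy, AddEquiv.apply_symm_apply] at h1
      exact (congrArg Additive.toMul h1).symm
    · rintro ⟨w, rfl⟩
      show Multiplicative.ofAdd (d 0 (uZ.symm (Additive.ofMul _))) = 1
      obtain ⟨y, hy⟩ := uX.surjective (Additive.ofMul w)
      have h1 := hu y
      rw [hy] at h1
      rw [show uZ.symm (Additive.ofMul (Units.map I.subschemeι.appTop.hom.toMonoidHom w)) = Sheaf.H.map S.g 0 y
        from uZ.symm_apply_eq.2 h1.symm]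
      refine congrArg Multiplicative.ofAdd ?_
      show (y.comp (Ext.mk₀ S.g) (add_zero 0)).comp hS.extClass rfl = 0
      rw [Ext.comp_assoc_of_second_deg_zero, hS.comp_extClass, Ext.comp_zero]
  · ext a
    rw [MonoidHom.mem_ker, MonoidHom.mem_range]
    constructor
    · intro h
      have h0 : Sheaf.H.map S.f 1 a.toAdd = 0 :=
        (map_eq_zero_iff eX.symm eX.symm.injective).1 (congrArg Additive.ofMul h)
      obtain ⟨y, hy⟩ := Ext.covariant_sequence_exact₁ _ hS a.toAdd h0 rfl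
      exact ⟨Additive.toMul (uZ y), congrArg Multiplicative.ofAdd (by
        show d 0 (uZ.symm (uZ y)) = a.toAdd
        rw [AddEquiv.symm_apply_apply]; exact hy)⟩
    · rintro ⟨v, rfl⟩
      show Additive.toMul (eX.symm (Sheaf.H.map S.f 1 (d 0 (uZ.symm (Additive.ofMul v))))) = 1
      rw [show Sheaf.H.map S.f 1 (d 0 (uZ.symm (Additive.ofMul v))) = 0 from by
        show ((uZ.symm (Additive.ofMul v)).comp hS.extClass rfl).comp (Ext.mk₀ S.f) (add_zero 1) = 0
        rw [Ext.comp_assoc_of_third_deg_zero, hS.extClass_comp, Ext.comp_zero], map_zero]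
      rfl
  · ext c
    rw [MonoidHom.mem_ker, MonoidHom.mem_range]
    obtain ⟨x, hx⟩ := eX.symm.surjective (Additive.ofMul c)
    constructor
    · intro h
      have h0 : Sheaf.H.map S.g 1 x = 0 := (map_eq_zero_iff eZ.symm eZ.symm.injective).1 (by
        rw [hnat, hx]; exact congrArg Additive.ofMul h)
      obtain ⟨y, hy⟩ := UnitsLib.H_exact hS 1 x h0
      exact ⟨Multiplicative.ofAdd y, by
        show Additive.toMul (eX.symm (Sheaf.H.map S.f 1 y)) = c
        rw [hy, hx]; rfl⟩
    · rintro ⟨y, hy⟩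
      have hxy : x = Sheaf.H.map S.f 1 y.toAdd :=
        eX.symm.injective (hx.trans (congrArg Additive.ofMul hy).symm)
      have h1 := hnat x
      rw [hx, hxy, ← Sheaf.H.map_comp_apply, S.zero, Sheaf.H.map_apply, Ext.mk₀_zero, Ext.comp_zero,
        map_zero] at h1
      exact (congrArg Additive.toMul h1).symm
  · ext c
    rw [MonoidHom.mem_ker, MonoidHom.mem_range]
    constructor
    · intro h
      obtain ⟨y, hy⟩ := Ext.covariant_sequence_exact₃ _ hS (eZ (Additive.ofMul c)) rfl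
        (congrArg Multiplicative.toAdd h)
      refine ⟨Additive.toMul (eX.symm y), ?_⟩
      have h1 := hnat y
      rw [show Sheaf.H.map S.g 1 y = eZ (Additive.ofMul c) from hy, AddEquiv.symm_apply_apply] at h1
      exact (congrArg Additive.toMul h1).symm
    · rintro ⟨c', rfl⟩
      show Multiplicative.ofAdd (d 1 (eZ (Additive.ofMul _))) = 1
      obtain ⟨y, hy⟩ := eX.symm.surjective (Additive.ofMul c')
      have h1 := hnat y
      rw [hy] at h1
      rw [show eZ (Additive.ofMul (PicGrp.pullHom I.subschemeι hi c')) = Sheaf.H.map S.g 1 y from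
        eZ.symm.injective ((eZ.symm_apply_apply _).trans h1.symm)]
      refine congrArg Multiplicative.ofAdd ?_
      show (y.comp (Ext.mk₀ S.g) (add_zero 1)).comp hS.extClass rfl = 0
      rw [Ext.comp_assoc_of_second_deg_zero, hS.comp_extClass, Ext.comp_zero]

theorem nonempty_ker_mulEquiv [PicGrp.Law X] [PicGrp.Law I.subscheme] (hi : PicGrp.PullMul I.subschemeι)
    (hI : I * I = ⊥) (hsurj : Function.Surjective I.subschemeι.appTop.hom) :
    Nonempty ((PicGrp.pullHom I.subschemeι hi).ker ≃* Multiplicative (Coh.HH X (ClSub.idealMod I) 1)) := by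
  obtain ⟨ε, δ₀, α, δ₁, -, -, h0, h1, h2, -⟩ := exists_exact I hI hi
  have hα : Function.Injective α := (MonoidHom.ker_eq_bot_iff α).1 (by
    rw [h1, MonoidHom.range_eq_bot_iff]
    refine MonoidHom.ext fun v => MonoidHom.mem_ker.1 ?_
    rw [h0]
    exact exists_unit_lift I hI hsurj)
  exact ⟨(MulEquiv.subgroupCongr h2).trans (MonoidHom.ofInjective hα).symm⟩

end Groth.Agent.PicH1
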