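import Groth.Agent.UnitsLib.Coh
import Groth.Agent.UnitsLib.SquareZero
import Groth.Agent.H23.CocycleMod
import Groth.Agent.InvX.Tensor
import Groth.Prelude.Def_PicGrp

/-!
# Invertible modules and the first cohomology of the units

For `f : Z ⟶ X`, a resolution `0 → f_* O_Z^× → I → Q → 0` with `I` injective, and `q ∈ Q(X)`, the local lifts of
`q` to `I` give a cocycle of units, hence an invertible module on `Z`.
-/

universe u

open CategoryTheory CategoryTheory.Limits AlgebraicGeometry Opposite TopologicalSpace CategoryTheory.Abelian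

noncomputable section

set_option autoImplicit false
set_option maxHeartbeats 400000
set_option synthInstance.maxHeartbeats 100000
set_option backward.isDefEq.respectTransparency false
set_option backward.isDefEq.respectTransparency.types false

namespace Groth.Agent.PicH1

variable {T : TopCat.{u}} {F G H : CohTop.Ab T}

/-- The value of a morphism of sheaves on sections. -/
def ap (φ : F ⟶ G) (U : Opens T) : F.obj.obj (op U) →+ G.obj.obj (op U) := (φ.hom.app (op U)).hom

/-- Restriction of sections. -/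
def rs (F : CohTop.Ab T) {U V : Opens T} (h : V ≤ U) : F.obj.obj (op U) →+ F.obj.obj (op V) :=
  (F.obj.map (homOfLE h).op).hom

theorem ap_rs (φ : F ⟶ G) {U V : Opens T} (h : V ≤ U) (a : F.obj.obj (op U)) :
    ap φ V (rs F h a) = rs G h (ap φ U a) :=
  ConcreteCategory.congr_hom (φ.hom.naturality (homOfLE h).op) a

theorem ap_comp (φ : F ⟶ G) (ψ : G ⟶ H) (U : Opens T) (a : F.obj.obj (op U)) :
    ap (φ ≫ ψ) U a = ap ψ U (ap φ U a) := rfl

theorem rs_rs {U V W : Opens T} (h : V ≤ U) (h' : W ≤ V) (a : F.obj.obj (op U)) :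
    rs F h' (rs F h a) = rs F (h'.trans h) a :=
  (ConcreteCategory.congr_hom (F.obj.map_comp (homOfLE h).op (homOfLE h').op) a).symm

theorem rs_self {U : Opens T} (a : F.obj.obj (op U)) : rs F (le_refl U) a = a :=
  ConcreteCategory.congr_hom (F.obj.map_id (op U)) a

theorem sect_ext {ι : Type u} {U : Opens T} (V : ι → Opens T) (hV : ∀ i, V i ≤ U)
    (hcov : ∀ p ∈ U, ∃ i, p ∈ V i) {a b : F.obj.obj (op U)}
    (h : ∀ i, rs F (hV i) a = rs F (hV i) b) : a = b :=
  TopCat.Sheaf.eq_of_locally_eq' (X := T) F V U (fun i => homOfLE (hV i))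
    (fun p hp => Opens.mem_iSup.2 (hcov p hp)) a b h

theorem sect_glue {ι : Type u} {U : Opens T} (V : ι → Opens T) (hV : ∀ i, V i ≤ U)
    (hcov : ∀ p ∈ U, ∃ i, p ∈ V i) (a : ∀ i, F.obj.obj (op (V i)))
    (h : ∀ i j, rs F (inf_le_left : V i ⊓ V j ≤ V i) (a i) = rs F (inf_le_right : V i ⊓ V j ≤ V j) (a j)) :
    ∃ b : F.obj.obj (op U), ∀ i, rs F (hV i) b = a i :=
  (TopCat.Sheaf.existsUnique_gluing' (X := T) F V U (fun i => homOfLE (hV i))
    (fun p hp => Opens.mem_iSup.2 (hcov p hp)) a h).exists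

/-- The presheaf of families of sections over the traces on a cover. -/
def prodPsh (F : CohTop.Ab T) {ι : Type u} (U : ι → Opens T) : (Opens T)ᵒᵖ ⥤ AddCommGrpCat.{u} where
  obj V := AddCommGrpCat.of (∀ i, F.obj.obj (op (V.unop ⊓ U i)))
  map {V W} h := AddCommGrpCat.ofHom
    (AddMonoidHom.mk' (fun a i => rs F (inf_le_inf_right _ h.unop.le) (a i))
      fun a b => funext fun i => map_add _ _ _)
  map_id V := by
    refine AddCommGrpCat.hom_ext (AddMonoidHom.ext fun a => funext fun i => ?_)
    exact rs_self (a i)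
  map_comp h h' := by
    refine AddCommGrpCat.hom_ext (AddMonoidHom.ext fun a => funext fun i => ?_)
    exact (rs_rs _ _ (a i)).symm

/-- The restriction map to families. -/
def toProd (F : CohTop.Ab T) {ι : Type u} (U : ι → Opens T) : F.obj ⟶ prodPsh F U where
  app V := AddCommGrpCat.ofHom
    (AddMonoidHom.mk' (fun a i => rs F inf_le_left a) fun a b => funext fun i => map_add _ _ _)
  naturality V W h := by
    refine AddCommGrpCat.hom_ext (AddMonoidHom.ext fun a => funext fun i => ?_)
    show rs F inf_le_left (rs F h.unop.le a) = rs F _ (rs F inf_le_left a)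
    rw [rs_rs, rs_rs]

theorem mono_toProd (F : CohTop.Ab T) {ι : Type u} (U : ι → Opens T) (hU : ∀ p, ∃ i, p ∈ U i) :
    Mono (toProd F U) := by
  haveI : ∀ V, Mono ((toProd F U).app V) := fun V =>
    (AddCommGrpCat.mono_iff_injective _).2 fun a b h =>
      sect_ext (fun i => V.unop ⊓ U i) (fun i => inf_le_left) (fun p hp => (hU p).imp fun i hi => ⟨hp, hi⟩)
        fun i => congrFun h i
  exact NatTrans.mono_of_mono_app _

/-- A cocycle of an injective sheaf is a coboundary. -/
theorem exists_split (I : CohTop.Ab T) [Injective I] {ι : Type u} (U : ι → Opens T)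
    (hU : ∀ p, ∃ i, p ∈ U i) (a : ∀ i j, I.obj.obj (op (U i ⊓ U j)))
    (ha : ∀ (i j k : ι) (W : Opens T) (hi : W ≤ U i) (hj : W ≤ U j) (hk : W ≤ U k),
      rs I (le_inf hi hk) (a i k) = rs I (le_inf hi hj) (a i j) + rs I (le_inf hj hk) (a j k)) :
    ∃ s : ∀ i, I.obj.obj (op (U i)), ∀ (i j : ι) (W : Opens T) (hi : W ≤ U i) (hj : W ≤ U j),
      rs I hj (s j) - rs I hi (s i) = rs I (le_inf hi hj) (a i j) := by
  have := mono_toProd I U hU
  haveI hI : Injective I.obj :=
    Injective.injective_of_adjoint (sheafificationAdjunction (Opens.grothendieckTopology T) AddCommGrpCat.{u}) I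
  let r := Injective.factorThru (𝟙 I.obj) (toProd I U)
  have hr : ∀ (V : Opens T) (x : I.obj.obj (op V)), r.app (op V) ((toProd I U).app (op V) x) = x := fun V x =>
    ConcreteCategory.congr_hom (congrArg (fun φ => φ.app (op V)) (Injective.comp_factorThru (𝟙 I.obj) (toProd I U))) x
  let fam : ∀ i, (prodPsh I U).obj (op (U i)) := fun i k =>
    rs I (le_inf inf_le_right inf_le_left : U i ⊓ U k ≤ U k ⊓ U i) (a k i)
  refine ⟨fun i => r.app (op (U i)) (fam i), fun i j W hi hj => ?_⟩
  have hn : ∀ (k : ι) (hk : W ≤ U k), rs I hk (r.app (op (U k)) (fam k)) =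
      r.app (op W) ((prodPsh I U).map (homOfLE hk).op (fam k)) := fun k hk =>
    (ConcreteCategory.congr_hom (r.naturality (homOfLE hk).op) (fam k)).symm
  rw [hn i hi, hn j hj, ← map_sub]
  refine Eq.trans (congrArg (fun z => r.app (op W) z) ?_) (hr W _)
  funext k
  show rs I _ (rs I _ (a k j)) - rs I _ (rs I _ (a k i)) = rs I inf_le_left (rs I (le_inf hi hj) (a i j))
  rw [rs_rs, rs_rs, rs_rs, sub_eq_iff_eq_add, add_comm]
  exact ha k i j (W ⊓ U k) inf_le_right (inf_le_left.trans hi) (inf_le_left.trans hj)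

variable {Z X : Scheme.{u}} (f : Z ⟶ X)

/-- The direct image of the units. -/
abbrev uSh : CohTop.Ab X.toTopCat := (CohTop.push f.base).obj (UnitsSh.unitsAb Z)

/-- The function underlying a section of the direct image of the units. -/
def val {U : X.Opens} (c : (uSh f).obj.obj (op U)) : Γ(Z, f ⁻¹ᵁ U) := UnitsLib.valU (X := Z) (U := f ⁻¹ᵁ U) c

theorem val_injective {U : X.Opens} : Function.Injective (val f (U := U)) := UnitsLib.valU_injective

theorem val_zero {U : X.Opens} : val f (0 : (uSh f).obj.obj (op U)) = 1 := rfl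

theorem val_add {U : X.Opens} (a b : (uSh f).obj.obj (op U)) : val f (a + b) = val f a * val f b := rfl

theorem val_rs {U V : X.Opens} (h : V ≤ U) (a : (uSh f).obj.obj (op U)) :
    val f (rs (uSh f) h a) = AModX.resR (f.preimage_mono h) (val f a) := rfl

theorem isUnit_val {U : X.Opens} (a : (uSh f).obj.obj (op U)) : IsUnit (val f a) :=
  ⟨UnitsSh.unitOfSect (X := Z.toTopCat) (O := Z.presheaf) (U := op (f ⁻¹ᵁ U)) a, rfl⟩

theorem exists_val {U : X.Opens} {x : Γ(Z, f ⁻¹ᵁ U)} (hx : IsUnit x) :
    ∃ a : (uSh f).obj.obj (op U), val f a = x :=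
  UnitsLib.exists_sect_of_isUnit (X := Z) hx

/-- An injective resolution in degree one of the direct image of the units. -/
structure Res where
  /-- The injective sheaf. -/
  I : CohTop.Ab X.toTopCat
  /-- The quotient. -/
  Q : CohTop.Ab X.toTopCat
  /-- The inclusion. -/
  emb : uSh f ⟶ I
  /-- The projection. -/
  proj : I ⟶ Q
  w : emb ≫ proj = 0
  exact : (ShortComplex.mk emb proj w).ShortExact
  inj : Injective I

theorem exists_res : Nonempty (Res f) := by
  obtain ⟨e⟩ := (inferInstance : Nonempty (InjectivePresentation (uSh f))) 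
  refine ⟨⟨e.J, cokernel e.f, e.f, cokernel.π e.f, cokernel.condition _, ?_, e.injective⟩⟩
  exact { exact := ShortComplex.exact_of_g_is_cokernel _ (cokernelIsCokernel e.f)
          mono_f := e.mono
          epi_g := inferInstance }

namespace Res

variable {f} (R : Res f)

theorem emb_injective (U : X.Opens) : Function.Injective (ap R.emb U) := by
  have := R.exact.mono_f
  have : Mono ((UnitsLib.secF U).map R.emb) := inferInstance
  exact (AddCommGrpCat.mono_iff_injective _).1 this

theorem proj_emb (U : X.Opens) (c : (uSh f).obj.obj (op U)) : ap R.proj U (ap R.emb U c) = 0 :=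
  congrArg (fun φ : uSh f ⟶ R.Q => ap φ U c) R.w

theorem exists_emb (U : X.Opens) (b : R.I.obj.obj (op U)) (hb : ap R.proj U b = 0) :
    ∃ c, ap R.emb U c = b :=
  ((ShortComplex.ab_exact_iff _).1
    (ShortComplex.exact_of_f_is_kernel ((ShortComplex.mk R.emb R.proj R.w).map (UnitsLib.secF U))
      (haveI := R.exact.mono_f; KernelFork.mapIsLimit _ R.exact.fIsKernel (UnitsLib.secF U)))) b hb

theorem exists_local (U : X.Opens) (q : R.Q.obj.obj (op U)) {x : X} (hx : x ∈ U) :
    ∃ (V : X.Opens) (hV : V ≤ U), x ∈ V ∧ ∃ b, ap R.proj V b = rs R.Q hV q :=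
  by
  have := R.exact.epi_g
  have : Sheaf.IsLocallySurjective R.proj :=
    (Sheaf.isLocallySurjective_iff_epi' AddCommGrpCat.{u} _).2 inferInstance
  obtain ⟨W, g, ⟨b, hb⟩, hxW⟩ := Presheaf.imageSieve_mem (Opens.grothendieckTopology X.toTopCat)
    R.proj.hom q x hx
  exact ⟨W, g.le, hxW, b, hb⟩

end Res

end Groth.Agent.PicH1
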