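import Groth.Agent.PicH1Lib.Basic

/-!
# Trivialisations compatible with a cochain of local lifts
-/

universe u

open CategoryTheory CategoryTheory.Limits AlgebraicGeometry Opposite TopologicalSpace

noncomputable section

set_option autoImplicit false
set_option maxHeartbeats 400000
set_option synthInstance.maxHeartbeats 100000
set_option backward.isDefEq.respectTransparency false
set_option backward.isDefEq.respectTransparency.types false

namespace Groth.Agent.PicH1

open AModX InvX

variable {Z X : Scheme.{u}} {f : Z ⟶ X} (R : Res f)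

/-- Frames of `L` whose transition functions are the differences of local lifts of `q`. -/
structure Triv (L : Z.Modules) (q : R.Q.obj.obj (op (⊤ : X.Opens))) where
  /-- The index set of the cover. -/
  ι : Type u
  /-- The cover. -/
  U : ι → X.Opens
  cov : ∀ x, ∃ i, x ∈ U i
  /-- The frames. -/
  e : ∀ i, Γ(L, f ⁻¹ᵁ U i)
  frame : ∀ i, IsFrame (e i)
  /-- The lifts. -/
  s : ∀ i, R.I.obj.obj (op (U i))
  lift : ∀ i, ap R.proj (U i) (s i) = rs R.Q le_top q
  compat : ∀ (i j : ι) (W : X.Opens) (hi : W ≤ U i) (hj : W ≤ U j) (c : (uSh f).obj.obj (op W)),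
    ap R.emb W c = rs R.I hj (s j) - rs R.I hi (s i) →
      res L (f.preimage_mono hj) (e j) = val f c • res L (f.preimage_mono hi) (e i)

variable {R}

namespace Triv

variable {L L' : Z.Modules} {q q' : R.Q.obj.obj (op (⊤ : X.Opens))} (T : Triv R L q)

theorem exists_diff (i j : T.ι) (W : X.Opens) (hi : W ≤ T.U i) (hj : W ≤ T.U j) :
    ∃ c, ap R.emb W c = rs R.I hj (T.s j) - rs R.I hi (T.s i) :=
  R.exists_emb W _ (by
    rw [map_sub, ap_rs, ap_rs, T.lift, T.lift, rs_rs, rs_rs, sub_self])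

theorem cov_pre (z : Z) : ∃ i, z ∈ f ⁻¹ᵁ T.U i := T.cov (f z)

theorem isInvertible (T : Triv R L q) : PicF.IsInvertible L :=
  isInvertible_of_frames fun z => by
    obtain ⟨i, hi⟩ := T.cov_pre z
    exact ⟨_, hi, T.e i, T.frame i⟩

/-- Passage to a finer cover. -/
def refine' {κ : Type u} (V : κ → X.Opens) (hV : ∀ x, ∃ k, x ∈ V k) (r : κ → T.ι)
    (hr : ∀ k, V k ≤ T.U (r k)) : Triv R L q where
  ι := κ
  U := V
  cov := hV
  e k := res L (f.preimage_mono (hr k)) (T.e (r k))
  frame k := (T.frame _).res _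
  s k := rs R.I (hr k) (T.s (r k))
  lift k := by rw [ap_rs, T.lift, rs_rs]
  compat k l W hk hl c hc := by
    rw [rs_rs, rs_rs] at hc
    rw [res_res, res_res]
    exact T.compat _ _ W _ _ c hc

/-- Change of the lifts by units. -/
def twist (d : ∀ i, (uSh f).obj.obj (op (T.U i))) : Triv R L q where
  ι := T.ι
  U := T.U
  cov := T.cov
  e i := val f (d i) • T.e i
  frame i := (T.frame i).isUnit_smul (isUnit_val f _)
  s i := T.s i + ap R.emb _ (d i)
  lift i := by rw [map_add, R.proj_emb, add_zero, T.lift]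
  compat i j W hi hj c hc := by
    have hc' : ap R.emb W (c + rs (uSh f) hi (d i) - rs (uSh f) hj (d j)) =
        rs R.I hj (T.s j) - rs R.I hi (T.s i) := by
      rw [map_sub, map_add, hc, ap_rs, ap_rs, map_add, map_add]; abel
    have h := T.compat i j W hi hj _ hc'
    rw [res_smul, res_smul, ← val_rs f hj, ← val_rs f hi, h, ← mul_smul, ← mul_smul, ← val_add, ← val_add]
    exact congrArg (fun z => val f z • _) (by abel)

/-- Change of the section by a global lift. -/
def addRange (t : R.I.obj.obj (op (⊤ : X.Opens))) : Triv R L (q + ap R.proj ⊤ t) where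
  ι := T.ι
  U := T.U
  cov := T.cov
  e := T.e
  frame := T.frame
  s i := T.s i + rs R.I le_top t
  lift i := by rw [map_add, T.lift, ap_rs, map_add]
  compat i j W hi hj c hc := T.compat i j W hi hj c (by rw [hc, map_add, map_add, rs_rs, rs_rs]; abel)

/-- Transport along an isomorphism. -/
def ofIso (φ : L ≅ L') : Triv R L' q where
  ι := T.ι
  U := T.U
  cov := T.cov
  e i := φ.hom.app _ (T.e i)
  frame i V hV := by
    have hb : Function.Bijective (φ.hom.app V) :=
      (ConcreteCategory.isIso_iff_bijective _).1 (Scheme.Modules.Hom.isIso_iff_isIso_app.1 inferInstance V)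
    have : (fun r : Γ(Z, V) => r • res L' hV (φ.hom.app _ (T.e i))) =
        (φ.hom.app V) ∘ fun r : Γ(Z, V) => r • res L hV (T.e i) := funext fun r => by
      show _ = φ.hom.app V (r • res L hV (T.e i))
      rw [Scheme.Modules.Hom.app_smul, app_res]
    rw [this]
    exact hb.comp (T.frame i V hV)
  s := T.s
  lift := T.lift
  compat i j W hi hj c hc := by
    rw [← app_res, ← app_res, T.compat i j W hi hj c hc, Scheme.Modules.Hom.app_smul]

end Triv

/-- Modules with frames having the same transition functions are isomorphic. -/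
theorem nonempty_iso_of_frames {M N : Z.Modules} {ι : Type u} (U : ι → Z.Opens) (hcov : ∀ x, ∃ a, x ∈ U a)
    (e : ∀ a, Γ(M, U a)) (he : ∀ a, IsFrame (e a)) (n : ∀ a, Γ(N, U a)) (hn : ∀ a, IsFrame (n a))
    (h : ∀ a b, ∃ k : Γ(Z, U a ⊓ U b), res M (inf_le_right : U a ⊓ U b ≤ U b) (e b) = k • res M inf_le_left (e a) ∧
      res N (inf_le_right : U a ⊓ U b ≤ U b) (n b) = k • res N inf_le_left (n a)) :
    Nonempty (M ≅ N) := by
  have key : ∀ a b, ∃ k : Γ(Z, U a ⊓ U b), ∀ (W : Z.Opens) (ha : W ≤ U a) (hb : W ≤ U b),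
      res M hb (e b) = resR (le_inf ha hb) k • res M ha (e a) ∧
        res N hb (n b) = resR (le_inf ha hb) k • res N ha (n a) := fun a b => by
    obtain ⟨k, h1, h2⟩ := h a b
    refine ⟨k, fun W ha hb => ⟨?_, ?_⟩⟩
    · have := congrArg (res M (le_inf ha hb)) h1
      rwa [res_smul, res_res, res_res] at this
    · have := congrArg (res N (le_inf ha hb)) h2
      rwa [res_smul, res_res, res_res] at this
  choose k hk using key
  have hMN : ∀ (a b : ι) (W : Z.Opens) (ha : W ≤ U a) (hb : W ≤ U b) (g : Γ(Z, W)),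
      res M hb (e b) = g • res M ha (e a) → res N hb (n b) = g • res N ha (n a) := fun a b W ha hb g hg => by
    rw [(he a).coord_unique ha (hg.symm.trans (hk a b W ha hb).1)]
    exact (hk a b W ha hb).2
  have hNM : ∀ (a b : ι) (W : Z.Opens) (ha : W ≤ U a) (hb : W ≤ U b) (g : Γ(Z, W)),
      res N hb (n b) = g • res N ha (n a) → res M hb (e b) = g • res M ha (e a) := fun a b W ha hb g hg => by
    rw [(hn a).coord_unique ha (hg.symm.trans (hk a b W ha hb).2)]
    exact (hk a b W ha hb).1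
  refine ⟨⟨ofFrames hcov he hMN, ofFrames hcov hn hNM, ?_, ?_⟩⟩
  · refine hom_ext_of_frames U hcov e he fun a => ?_
    show (ofFrames hcov hn hNM).app (U a) ((ofFrames hcov he hMN).app (U a) (e a)) = e a
    rw [ofFrames_app, ofFrames_app]
  · refine hom_ext_of_frames U hcov n hn fun a => ?_
    show (ofFrames hcov he hMN).app (U a) ((ofFrames hcov hn hNM).app (U a) (n a)) = n a
    rw [ofFrames_app, ofFrames_app]

variable {L L' : Z.Modules} {q q' : R.Q.obj.obj (op (⊤ : X.Opens))}

theorem Triv.common (T : Triv R L q) (T' : Triv R L' q') :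
    ∃ (κ : Type u) (V : κ → X.Opens) (_ : ∀ x, ∃ k, x ∈ V k) (r : κ → T.ι) (r' : κ → T'.ι),
      (∀ k, V k ≤ T.U (r k)) ∧ ∀ k, V k ≤ T'.U (r' k) :=
  ⟨T.ι × T'.ι, fun p => T.U p.1 ⊓ T'.U p.2, fun x => by
    obtain ⟨i, hi⟩ := T.cov x
    obtain ⟨j, hj⟩ := T'.cov x
    exact ⟨(i, j), hi, hj⟩, Prod.fst, Prod.snd, fun _ => inf_le_left, fun _ => inf_le_right⟩

theorem Triv.nonempty_iso (T : Triv R L q) (T' : Triv R L' q) : Nonempty (L ≅ L') := by
  obtain ⟨κ, V, hV, r, r', hr, hr'⟩ := T.common T'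
  let A := T.refine' V hV r hr
  let B₀ := T'.refine' V hV r' hr'
  let sA : ∀ k, R.I.obj.obj (op (V k)) := A.s
  let sB : ∀ k, R.I.obj.obj (op (V k)) := B₀.s
  have hd : ∀ k : κ, ∃ d, ap R.emb (V k) d = sA k - sB k := fun k =>
    R.exists_emb _ _ (by rw [map_sub]; exact sub_eq_zero.2 ((A.lift k).trans (B₀.lift k).symm))
  choose d hd using hd
  let B := B₀.twist d
  let sB' : ∀ k, R.I.obj.obj (op (V k)) := B.s
  have hs : ∀ k : κ, sB' k = sA k := fun k => by
    show sB k + ap R.emb (V k) (d k) = sA k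
    rw [hd k]; abel
  refine nonempty_iso_of_frames (fun k => f ⁻¹ᵁ V k) A.cov_pre A.e A.frame B.e B.frame fun a b => ?_
  obtain ⟨c, hc⟩ := A.exists_diff a b (V a ⊓ V b) inf_le_left inf_le_right
  refine ⟨val f c, A.compat a b _ inf_le_left inf_le_right c hc,
    B.compat a b (V a ⊓ V b) inf_le_left inf_le_right c ?_⟩
  show _ = rs R.I _ (sB' b) - rs R.I _ (sB' a)
  rw [hs a, hs b]
  exact hc

theorem exists_triv_add (T : Triv R L q) (T' : Triv R L' q') :
    Nonempty (Triv R (CohB1.tensorMod L L') (q + q')) := by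
  obtain ⟨κ, V, hV, r, r', hr, hr'⟩ := T.common T'
  let A := T.refine' V hV r hr
  let B := T'.refine' V hV r' hr'
  let sA : ∀ k, R.I.obj.obj (op (V k)) := A.s
  let sB : ∀ k, R.I.obj.obj (op (V k)) := B.s
  let eA : ∀ k, Γ(L, f ⁻¹ᵁ V k) := A.e
  let eB : ∀ k, Γ(L', f ⁻¹ᵁ V k) := B.e
  refine ⟨{ ι := κ, U := V, cov := hV
            e := fun k => tmul (eA k) (eB k)
            frame := fun k => isFrame_tmul (A.frame k) (B.frame k)
            s := fun k => sA k + sB k
            lift := fun k => by rw [map_add, map_add]; exact congrArg₂ (· + ·) (A.lift k) (B.lift k)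
            compat := fun a b W ha hb c hc => ?_ }⟩
  obtain ⟨c₁, h₁'⟩ := A.exists_diff a b W ha hb
  have h₁ : ap R.emb W c₁ = rs R.I hb (sA b) - rs R.I ha (sA a) := h₁'
  have h₂ : ap R.emb W (c - c₁) = rs R.I hb (sB b) - rs R.I ha (sB a) := by
    rw [map_sub, hc, h₁, map_add, map_add]; abel
  have h₃ : res L (f.preimage_mono hb) (eA b) = val f c₁ • res L (f.preimage_mono ha) (eA a) :=
    A.compat a b W ha hb c₁ h₁
  have h₄ : res L' (f.preimage_mono hb) (eB b) = val f (c - c₁) • res L' (f.preimage_mono ha) (eB a) :=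
    B.compat a b W ha hb _ h₂
  rw [res_tmul, res_tmul, h₃, h₄, tmul_smul_left, tmul_smul_right, ← mul_smul, ← val_add, add_sub_cancel]

theorem exists_triv_zero (R : Res f) : Nonempty (Triv R (Coh.structureModule Z) 0) :=
  ⟨{ ι := PUnit, U := fun _ => ⊤, cov := fun _ => ⟨PUnit.unit, trivial⟩
     e := fun _ => (1 : Γ(Z, f ⁻¹ᵁ ⊤))
     frame := fun _ => isFrame_one _
     s := fun _ => 0
     lift := fun _ => by rw [map_zero, map_zero]
     compat := fun i j W hi hj c hc => by
       have h0 : c = 0 := R.emb_injective W (by rw [hc, map_zero, map_zero, sub_self])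
       rw [h0, val_zero, one_smul] }⟩

theorem exists_triv (R : Res f) (q : R.Q.obj.obj (op (⊤ : X.Opens))) :
    ∃ L, Nonempty (Triv R L q) := by
  have hl := fun x : X => R.exists_local ⊤ q (x := x) trivial
  choose V hV hx b hb using hl
  have hd : ∀ i j : X, ∃ c, ap R.emb (V i ⊓ V j) c = rs R.I inf_le_left (b i) - rs R.I inf_le_right (b j) :=
    fun i j => R.exists_emb _ _ (by rw [map_sub, ap_rs, ap_rs, hb, hb, rs_rs, rs_rs, sub_self])
  choose c hc using hd
  let g : ∀ i j : X, (Γ(Z, (f ⁻¹ᵁ V i) ⊓ (f ⁻¹ᵁ V j)))ˣ := fun i j => (isUnit_val f (c i j)).unit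
  let t : H23.CocycleMod.Cocycle (fun i => f ⁻¹ᵁ V i) :=
    { g := g
      trans := fun i j k W hi hj hk => by
        have h : rs (uSh f) (le_inf (inf_le_left.trans inf_le_left) inf_le_right) (c i k) =
            rs (uSh f) (le_inf (inf_le_left.trans inf_le_right) inf_le_right) (c j k) +
              rs (uSh f) inf_le_left (c i j) := R.emb_injective (V i ⊓ V j ⊓ V k) (by
          rw [map_add, ap_rs, ap_rs, ap_rs, hc, hc, hc, map_sub, map_sub, map_sub, rs_rs, rs_rs, rs_rs,
            rs_rs, rs_rs, rs_rs]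
          abel)
        have h' := congrArg (val f) h
        rw [val_add, val_rs, val_rs, val_rs] at h'
        have h'' := congrArg (resR (le_inf (le_inf hi hj) hk : W ≤ f ⁻¹ᵁ (V i ⊓ V j ⊓ V k))) h'
        rw [map_mul] at h''
        refine Eq.trans ?_ (h''.trans ?_)
        · exact (resR_resR _ _ _).symm
        · exact congrArg₂ (· * ·) (resR_resR _ _ _) (resR_resR _ _ _) }
  refine ⟨H23.CocycleMod.mod t, ⟨{
    ι := X, U := V, cov := fun x => ⟨x, hx x⟩
    e := H23.CocycleMod.frame t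
    frame := H23.CocycleMod.isFrame_frame t
    s := b
    lift := fun i => hb i
    compat := fun i j W hi hj c' hc' => ?_ }⟩⟩
  have h : rs (uSh f) (le_inf hj hi) (c j i) = c' := R.emb_injective W (by
    rw [ap_rs, hc, map_sub, rs_rs, rs_rs, hc'])
  have hres := congrArg (res (H23.CocycleMod.mod t) (f.preimage_mono (le_inf hj hi) :
    f ⁻¹ᵁ W ≤ (f ⁻¹ᵁ V j) ⊓ (f ⁻¹ᵁ V i))) (H23.CocycleMod.res_frame t j i)
  rw [← h, val_rs]
  refine Eq.trans ?_ ((hres.trans (res_smul _ _ _)).trans (congrArg _ ?_))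
  · exact (res_res _ _ _).symm
  · exact res_res _ _ _

theorem Triv.exists_global (T : Triv R L q) (φ : L ≅ Coh.structureModule Z) :
    ∃ t, ap R.proj ⊤ t = q := by
  let T' := T.ofIso φ
  have hu : ∀ i, ∃ d : (uSh f).obj.obj (op (T'.U i)), val f d • T'.e i =
      (show Γ(Coh.structureModule Z, f ⁻¹ᵁ T'.U i) from (1 : Γ(Z, f ⁻¹ᵁ T'.U i))) := fun i => by
    obtain ⟨r, hr⟩ := (T'.frame i).exists_coord le_rfl
      (show Γ(Coh.structureModule Z, f ⁻¹ᵁ T'.U i) from (1 : Γ(Z, f ⁻¹ᵁ T'.U i)))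
    rw [res_self] at hr
    obtain ⟨d, hd⟩ := exists_val f (U := T'.U i) (IsUnit.of_mul_eq_one _ hr.symm)
    exact ⟨d, by rw [hd]; exact hr.symm⟩
  choose d hd using hu
  let A := T'.twist d
  have hagree : ∀ i j : A.ι, rs R.I (inf_le_left : A.U i ⊓ A.U j ≤ A.U i) (A.s i) =
      rs R.I (inf_le_right : A.U i ⊓ A.U j ≤ A.U j) (A.s j) := fun i j => by
    obtain ⟨c, hc⟩ := A.exists_diff i j (A.U i ⊓ A.U j) inf_le_left inf_le_right
    have h := A.compat i j _ inf_le_left inf_le_right c hc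
    have he : ∀ i, A.e i = (show Γ(Coh.structureModule Z, f ⁻¹ᵁ A.U i) from (1 : Γ(Z, f ⁻¹ᵁ A.U i))) := hd
    rw [he i, he j] at h
    have h1 : val f c = 1 := by
      change resR _ 1 = val f c * resR _ 1 at h
      rw [map_one, map_one, mul_one] at h
      exact h.symm
    have hc0 : c = 0 := val_injective f (h1.trans (val_zero f).symm)
    rw [hc0, map_zero] at hc
    exact (sub_eq_zero.1 hc.symm).symm
  obtain ⟨t, ht⟩ := sect_glue A.U (fun _ => le_top) (fun p _ => A.cov p) A.s hagree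
  refine ⟨t, sect_ext A.U (fun _ => le_top) (fun p _ => A.cov p) fun i => ?_⟩
  rw [← ap_rs, ht i, A.lift i]

/-- If `f` identifies the opens, every invertible module arises. -/
theorem exists_triv_of_invertible (R : Res f) (hsurj : Function.Surjective f)
    (hopen : ∀ W : Z.Opens, ∃ V : X.Opens, f ⁻¹ᵁ V = W) (hL : PicF.IsInvertible L) :
    ∃ q, Nonempty (Triv R L q) := by
  have hex : ∀ x : X, ∃ (V : X.Opens) (_ : x ∈ V) (e : Γ(L, f ⁻¹ᵁ V)), IsFrame e := fun x => by
    obtain ⟨z, rfl⟩ := hsurj x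
    obtain ⟨W, hz, e, he⟩ := exists_frame hL z
    obtain ⟨V, rfl⟩ := hopen W
    exact ⟨V, hz, e, he⟩
  choose V hx e he using hex
  have hU : ∀ p : X, ∃ i, p ∈ V i := fun p => ⟨p, hx p⟩
  have hc : ∀ i j : X, ∃ c : (uSh f).obj.obj (op (V i ⊓ V j)),
      res L (f.preimage_mono inf_le_right) (e j) = val f c • res L (f.preimage_mono inf_le_left) (e i) := fun i j => by
    obtain ⟨k, hk⟩ := (he i).exists_coord (f.preimage_mono inf_le_left)
      (res L (f.preimage_mono (inf_le_right : V i ⊓ V j ≤ V j)) (e j))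
    obtain ⟨k', hk'⟩ := (he j).exists_coord (f.preimage_mono inf_le_right)
      (res L (f.preimage_mono (inf_le_left : V i ⊓ V j ≤ V i)) (e i))
    have : k * k' = 1 := (he j).coord_unique (f.preimage_mono inf_le_right) (by
      rw [one_smul, mul_smul, ← hk', ← hk])
    obtain ⟨c, hc⟩ := exists_val f (IsUnit.of_mul_eq_one _ this)
    exact ⟨c, by rw [hc]; exact hk⟩
  choose c hc using hc
  have hcW : ∀ (i j : X) (W : X.Opens) (hi : W ≤ V i) (hj : W ≤ V j),
      res L (f.preimage_mono hj) (e j) =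
        val f (rs (uSh f) (le_inf hi hj) (c i j)) • res L (f.preimage_mono hi) (e i) := fun i j W hi hj => by
    have h := congrArg (res L (f.preimage_mono (le_inf hi hj))) (hc i j)
    rw [res_res, res_smul, res_res] at h
    exact h
  obtain ⟨s, hs⟩ : ∃ s : ∀ i, R.I.obj.obj (op (V i)), ∀ (i j : X) (W : X.Opens) (hi : W ≤ V i) (hj : W ≤ V j),
      rs R.I hj (s j) - rs R.I hi (s i) = rs R.I (le_inf hi hj) (ap R.emb _ (c i j)) :=
    haveI := R.inj
    exists_split R.I V hU (fun i j => ap R.emb _ (c i j)) fun i j k W hi hj hk => by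
      rw [← ap_rs, ← ap_rs, ← ap_rs, ← map_add]
      congr 1
      refine val_injective f ((he i).coord_unique (f.preimage_mono hi) ?_)
      rw [val_add, mul_comm, mul_smul, ← hcW i k W hi hk, ← hcW i j W hi hj, ← hcW j k W hj hk]
  obtain ⟨q, hq⟩ := sect_glue (F := R.Q) V (fun _ => le_top (a := _)) (fun p _ => hU p)
    (fun i => ap R.proj _ (s i)) fun i j => by
      rw [← ap_rs, ← ap_rs, eq_comm, ← sub_eq_zero, ← map_sub, hs i j _ inf_le_left inf_le_right, ← ap_rs,
        R.proj_emb]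
  exact ⟨q, ⟨{
    ι := X, U := V, cov := hU, e := e, frame := he, s := s
    lift := fun i => (hq i).symm
    compat := fun i j W hi hj c' hc' => by
      have h : c' = rs (uSh f) (le_inf hi hj) (c i j) := R.emb_injective W (by
        rw [hc', hs i j W hi hj, ap_rs])
      rw [h]
      exact hcW i j W hi hj }⟩⟩

end Groth.Agent.PicH1
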